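import Groth.Prelude.Def_W4c4cptpiccptjacBI
import Mathlib.Tactic

/-! The Basic Inequality: existence in every degree class, and extremal twists. -/

set_option autoImplicit false
universe u

open LabGraph

namespace BasicIneqLib

variable {V E : Type u} [Fintype V] [Fintype E] [DecidableEq V] [DecidableEq E] (ends : E → V × V) (w : V → ℕ)

/-- The defect of a multidegree on a set of vertices. -/
def defect (d : V → ℤ) (Y : Finset V) : ℤ :=
  canDeg ends w Finset.univ * (∑ v ∈ Y, d v) - (∑ v : V, d v) * canDeg ends w Y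

theorem defect_eq_sum (d : V → ℤ) (Y : Finset V) : defect ends w d Y =
    ∑ v ∈ Y, (canDeg ends w Finset.univ * d v - (∑ v : V, d v) * canDeg ends w {v}) := by
  simp only [defect, canDeg, Finset.sum_singleton, Finset.sum_sub_distrib, Finset.mul_sum]

theorem defect_union_add_inter (d : V → ℤ) (Y Z : Finset V) :
    defect ends w d (Y ∪ Z) + defect ends w d (Y ∩ Z) = defect ends w d Y + defect ends w d Z := by
  simp only [defect_eq_sum, Finset.sum_union_inter]

theorem defect_sdiff (d : V → ℤ) (Y Z : Finset V) :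
    defect ends w d Y + defect ends w d (Z \ Y) = defect ends w d Z + defect ends w d (Y \ Z) := by
  simp only [defect_eq_sum]
  rw [← Finset.sum_union Finset.disjoint_sdiff, ← Finset.sum_union Finset.disjoint_sdiff,
    Finset.union_sdiff_self_eq_union, Finset.union_sdiff_self_eq_union, Finset.union_comm]

theorem canDeg_univ : canDeg ends w Finset.univ = 2 * genus ends w - 2 := by
  have h : ∑ v : V, (endCount ends Finset.univ v : ℤ) = 2 * (Fintype.card E : ℤ) := by
    simp only [endCount, Nat.cast_sum, Nat.cast_add, Nat.cast_ite, Nat.cast_one, Nat.cast_zero]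
    rw [Finset.sum_comm]
    simp [Finset.sum_add_distrib]
    ring
  simp only [canDeg, genus, Finset.sum_add_distrib, Finset.sum_sub_distrib, ← Finset.mul_sum, h, Finset.sum_const,
    Finset.card_univ, nsmul_eq_mul]
  ring

theorem sum_twist (φ : V → ℤ) (Y : Finset V) :
    ∑ v ∈ Y, twist ends φ v = ∑ e : E, ((if (ends e).1 ∈ Y then φ (ends e).2 - φ (ends e).1 else 0) +
      (if (ends e).2 ∈ Y then φ (ends e).1 - φ (ends e).2 else 0)) := by
  simp only [twist]
  rw [Finset.sum_comm]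
  simp [Finset.sum_add_distrib]

theorem sum_twist_univ (φ : V → ℤ) : ∑ v : V, twist ends φ v = 0 := by
  rw [sum_twist]
  exact Finset.sum_eq_zero fun e _ => by simp

theorem cut_eq (Y : Finset V) : (cut ends Y : ℤ) = ∑ e : E, if ((ends e).1 ∈ Y ∧ (ends e).2 ∉ Y) ∨ ((ends e).1 ∉ Y ∧ (ends e).2 ∈ Y) then 1 else 0 := by
  rw [cut, Finset.natCast_card_filter]

theorem defect_twist (d φ : V → ℤ) (Y : Finset V) : defect ends w (fun v => d v + twist ends φ v) Y =
    defect ends w d Y + canDeg ends w Finset.univ * ∑ v ∈ Y, twist ends φ v := by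
  simp only [defect, Finset.sum_add_distrib, sum_twist_univ, add_zero]
  ring

theorem satisfiesBI_iff (d : V → ℤ) : SatisfiesBI ends w d ↔ ∀ Y : Finset V,
    2 * defect ends w d Y ≤ (cut ends Y : ℤ) * canDeg ends w Finset.univ ∧
      -(2 * defect ends w d Y) ≤ (cut ends Y : ℤ) * canDeg ends w Finset.univ := by
  refine forall_congr' fun Y => ?_
  rw [show (canDeg ends w Finset.univ * (∑ v ∈ Y, d v) - (∑ v : V, d v) * canDeg ends w Y) = defect ends w d Y from rfl]
  rcases abs_cases (defect ends w d Y) with ⟨h, h'⟩ | ⟨h, h'⟩ <;> rw [h] <;> constructor <;>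
    first
      | (intro hh; constructor <;> linarith)
      | (rintro ⟨h1, h2⟩; linarith)

theorem twist_extremal (d : V → ℤ) (hC : 0 ≤ canDeg ends w Finset.univ) (hBI : SatisfiesBI ends w d) (Z : Finset V)
    (hZ : 2 * defect ends w d Z = (cut ends Z : ℤ) * canDeg ends w Finset.univ) :
    SatisfiesBI ends w (fun v => d v + twist ends (fun u => if u ∈ Z then 1 else 0) v) := by
  rw [satisfiesBI_iff] at hBI ⊢
  intro Y
  rw [defect_twist]
  set t := ∑ v ∈ Y, twist ends (fun u => if u ∈ Z then 1 else 0) v with ht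
  have h1 : (cut ends (Y ∪ Z) : ℤ) + cut ends (Y ∩ Z) + 2 * t ≤ cut ends Y + cut ends Z := by
    rw [ht, sum_twist, cut_eq, cut_eq, cut_eq, cut_eq, Finset.mul_sum, ← Finset.sum_add_distrib,
      ← Finset.sum_add_distrib, ← Finset.sum_add_distrib]
    refine Finset.sum_le_sum fun e _ => ?_
    by_cases a : (ends e).1 ∈ Y <;> by_cases b : (ends e).2 ∈ Y <;> by_cases a' : (ends e).1 ∈ Z <;>
      by_cases b' : (ends e).2 ∈ Z <;> simp [a, b, a', b']
  have h2 : (cut ends (Y \ Z) : ℤ) + cut ends (Z \ Y) - 2 * t ≤ cut ends Y + cut ends Z := by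
    rw [ht, sum_twist, cut_eq, cut_eq, cut_eq, cut_eq, Finset.mul_sum, ← Finset.sum_add_distrib,
      ← Finset.sum_sub_distrib, ← Finset.sum_add_distrib]
    refine Finset.sum_le_sum fun e _ => ?_
    by_cases a : (ends e).1 ∈ Y <;> by_cases b : (ends e).2 ∈ Y <;> by_cases a' : (ends e).1 ∈ Z <;>
      by_cases b' : (ends e).2 ∈ Z <;> simp [a, b, a', b']
  have e1 := defect_union_add_inter ends w d Y Z
  have e2 := defect_sdiff ends w d Y Z
  constructor
  · nlinarith [(hBI (Y ∪ Z)).1, (hBI (Y ∩ Z)).1, mul_le_mul_of_nonneg_right h1 hC]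
  · nlinarith [(hBI (Y \ Z)).2, (hBI (Z \ Y)).1, mul_le_mul_of_nonneg_right h2 hC]

theorem exists_bound (hconn : Connected ends) (v₀ v : V) :
    ∃ k : ℕ, ∀ φ : V → ℤ, |φ v - φ v₀| ≤ k * ∑ e : E, |φ (ends e).1 - φ (ends e).2| := by
  induction hconn.2 v₀ v with
  | refl => exact ⟨0, fun φ => by simp⟩
  | @tail a b _ hadj ih =>
    obtain ⟨k, hk⟩ := ih
    refine ⟨k + 1, fun φ => ?_⟩
    obtain ⟨e, he⟩ := hadj
    have hle : |φ b - φ a| ≤ ∑ e : E, |φ (ends e).1 - φ (ends e).2| := by
      refine le_trans ?_ (Finset.single_le_sum (f := fun e => |φ (ends e).1 - φ (ends e).2|)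
        (fun _ _ => abs_nonneg _) (Finset.mem_univ e))
      rcases he with he | he <;> simp [he, abs_sub_comm]
    have := abs_sub_le (φ b) (φ a) (φ v₀)
    push_cast
    linarith [hk φ]

theorem exists_balanced (hconn : Connected ends) (hC : 1 ≤ canDeg ends w Finset.univ) (d : V → ℤ) :
    ∃ d' : V → ℤ, TwistEquiv ends d' d ∧ SatisfiesBI ends w d' := by
  classical
  set C := canDeg ends w Finset.univ with hCdef
  let g : V → ℤ := fun v => C * d v - (∑ v : V, d v) * canDeg ends w {v}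
  have hg : ∀ Y : Finset V, defect ends w d Y = ∑ v ∈ Y, g v := defect_eq_sum ends w d
  have hg0 : ∑ v, g v = 0 := by rw [← hg]; simp only [defect]; ring
  let Q : (V → ℤ) → ℤ := fun φ => C * ∑ e : E, (φ (ends e).1 - φ (ends e).2) ^ 2 - 2 * ∑ v, φ v * g v
  obtain ⟨v₀⟩ := hconn.1
  choose k hk using exists_bound ends hconn v₀
  set F : ℤ := ∑ v, (k v : ℤ) * |g v| with hF
  have hbdd : ∀ φ, -((Fintype.card E : ℤ) * F ^ 2) ≤ Q φ := by
    intro φ
    set S := ∑ e : E, |φ (ends e).1 - φ (ends e).2| with hS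
    have h1 : ∑ v, φ v * g v ≤ F * S := by
      have hz : ∑ v, φ v * g v = ∑ v, (φ v - φ v₀) * g v := by
        simp only [sub_mul, Finset.sum_sub_distrib, ← Finset.mul_sum, hg0, mul_zero, sub_zero]
      rw [hz, hF, Finset.sum_mul]
      refine Finset.sum_le_sum fun v _ => (le_abs_self _).trans ?_
      rw [abs_mul, mul_right_comm]
      exact mul_le_mul_of_nonneg_right (hk v φ) (abs_nonneg _)
    have h2 : ∑ _e : E, -(F ^ 2) ≤ ∑ e : E, (C * (φ (ends e).1 - φ (ends e).2) ^ 2 - 2 * F * |φ (ends e).1 - φ (ends e).2|) := by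
      refine Finset.sum_le_sum fun e _ => ?_
      nlinarith [sq_nonneg (|φ (ends e).1 - φ (ends e).2| - F), sq_abs (φ (ends e).1 - φ (ends e).2),
        mul_nonneg (sub_nonneg.2 hC) (sq_nonneg (φ (ends e).1 - φ (ends e).2))]
    rw [Finset.sum_const, Finset.card_univ, nsmul_eq_mul, Finset.sum_sub_distrib, ← Finset.mul_sum, ← Finset.mul_sum] at h2
    simp only [Q]
    linarith
  obtain ⟨m, ⟨φ, hφ⟩, hmin⟩ := Int.exists_least_of_bdd (P := fun z => ∃ φ, Q φ = z)
    ⟨_, fun z ⟨φ, hz⟩ => hz ▸ hbdd φ⟩ ⟨_, 0, rfl⟩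
  refine ⟨fun v => d v + twist ends φ v, ⟨φ, fun v => by simp⟩, (satisfiesBI_iff ends w _).2 fun Y => ?_⟩
  rw [defect_twist, hg, sum_twist, cut_eq, Finset.sum_mul, Finset.mul_sum, ← hCdef]
  have key : ∀ s : ℤ, Q (fun v => φ v + if v ∈ Y then s else 0) = Q φ + s ^ 2 * (∑ e : E,
      (if ((ends e).1 ∈ Y ∧ (ends e).2 ∉ Y) ∨ ((ends e).1 ∉ Y ∧ (ends e).2 ∈ Y) then 1 else 0) * C) -
      2 * s * ((∑ v ∈ Y, g v) + ∑ e : E, C * ((if (ends e).1 ∈ Y then φ (ends e).2 - φ (ends e).1 else 0) +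
        (if (ends e).2 ∈ Y then φ (ends e).1 - φ (ends e).2 else 0))) := by
    intro s
    have hv : ∑ v, (φ v + if v ∈ Y then s else 0) * g v = (∑ v, φ v * g v) + s * ∑ v ∈ Y, g v := by
      simp only [add_mul, Finset.sum_add_distrib, ite_mul, zero_mul, Finset.sum_ite_mem, Finset.univ_inter, Finset.mul_sum]
    have he : C * ∑ e : E, (φ (ends e).1 + (if (ends e).1 ∈ Y then s else 0) -
        (φ (ends e).2 + if (ends e).2 ∈ Y then s else 0)) ^ 2 =
      C * ∑ e : E, (φ (ends e).1 - φ (ends e).2) ^ 2 + s ^ 2 * (∑ e : E,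
        (if ((ends e).1 ∈ Y ∧ (ends e).2 ∉ Y) ∨ ((ends e).1 ∉ Y ∧ (ends e).2 ∈ Y) then 1 else 0) * C) -
        2 * s * ∑ e : E, C * ((if (ends e).1 ∈ Y then φ (ends e).2 - φ (ends e).1 else 0) +
          (if (ends e).2 ∈ Y then φ (ends e).1 - φ (ends e).2 else 0)) := by
      simp only [Finset.mul_sum]
      rw [← Finset.sum_add_distrib, ← Finset.sum_sub_distrib]
      refine Finset.sum_congr rfl fun e _ => ?_
      by_cases a : (ends e).1 ∈ Y <;> by_cases b : (ends e).2 ∈ Y <;> simp [a, b] <;> ring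
    simp only [Q, hv]
    linarith
  constructor
  · have := key 1
    have h' := hmin _ ⟨fun v => φ v + if v ∈ Y then 1 else 0, rfl⟩
    simp only [one_pow, one_mul, mul_one] at this
    linarith
  · have := key (-1)
    have h' := hmin _ ⟨fun v => φ v + if v ∈ Y then -1 else 0, rfl⟩
    simp only [neg_sq, one_pow, one_mul] at this
    linarith

end BasicIneqLib
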