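import Groth.Agent.BasicIneqLib.Basic

/-! Moving an exceptional vertex in and out of a set of vertices. -/

set_option autoImplicit false
universe u

open LabGraph

namespace BasicIneqLib

variable {V E : Type u} [Fintype V] [Fintype E] [DecidableEq V] [DecidableEq E] (ends : E → V × V) (w : V → ℕ)

theorem cut_insert (Z : Finset V) {v : V} (hv : v ∉ Z) (hloop : ∀ e : E, ends e ≠ (v, v)) :
    (cut ends (insert v Z) : ℤ) = cut ends Z + cut ends {v} - 2 * twist ends (fun u => if u ∈ Z then 1 else 0) v := by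
  rw [cut_eq, cut_eq, cut_eq, twist, Finset.mul_sum, ← Finset.sum_add_distrib, ← Finset.sum_sub_distrib]
  refine Finset.sum_congr rfl fun e _ => ?_
  have := hloop e
  rw [ne_eq, Prod.ext_iff, not_and] at this
  by_cases a : (ends e).1 = v <;> by_cases b : (ends e).2 = v <;> by_cases a' : (ends e).1 ∈ Z <;>
    by_cases b' : (ends e).2 ∈ Z <;> simp_all

theorem canDeg_exceptional {v : V} (hv : IsExceptional ends w v) : canDeg ends w {v} = 0 := by
  have h : (endCount ends Finset.univ v : ℤ) = cut ends {v} := by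
    rw [cut_eq, endCount]
    push_cast
    refine Finset.sum_congr rfl fun e _ => ?_
    have := hv.2.1 e
    rw [ne_eq, Prod.ext_iff, not_and] at this
    by_cases a : (ends e).1 = v <;> by_cases b : (ends e).2 = v <;> simp_all [sub_eq_zero]
  simp [canDeg, hv.1, h, hv.2.2]

theorem twist_indicator_nonneg (Z : Finset V) {v : V} (hv : v ∉ Z) :
    0 ≤ twist ends (fun u => if u ∈ Z then 1 else 0) v ∧
      (twist ends (fun u => if u ∈ Z then 1 else 0) v = 0 → ∀ e : E,
        ((ends e).1 = v → (ends e).2 ∉ Z) ∧ ((ends e).2 = v → (ends e).1 ∉ Z)) := by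
  have hterm : ∀ e : E, 0 ≤ ((if (ends e).1 = v then ((if (ends e).2 ∈ Z then (1 : ℤ) else 0) -
      (if (ends e).1 ∈ Z then 1 else 0)) else 0) + (if (ends e).2 = v then ((if (ends e).1 ∈ Z then (1 : ℤ) else 0) -
      (if (ends e).2 ∈ Z then 1 else 0)) else 0)) := fun e => by
    by_cases a : (ends e).1 = v <;> by_cases b : (ends e).2 = v <;> simp [a, b, hv] <;> split_ifs <;> omega
  refine ⟨Finset.sum_nonneg fun e _ => hterm e, fun h e => ?_⟩
  have := (Finset.sum_eq_zero_iff_of_nonneg fun e _ => hterm e).1 h e (Finset.mem_univ e)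
  by_cases a : (ends e).1 = v <;> by_cases b : (ends e).2 = v <;> simp_all [sub_eq_zero]

theorem twist_indicator_nonpos (Z : Finset V) {v : V} (hv : v ∈ Z) :
    twist ends (fun u => if u ∈ Z then 1 else 0) v ≤ 0 ∧
      (twist ends (fun u => if u ∈ Z then 1 else 0) v = 0 → ∀ e : E,
        ((ends e).1 = v → (ends e).2 ∈ Z) ∧ ((ends e).2 = v → (ends e).1 ∈ Z)) := by
  have hterm : ∀ e : E, ((if (ends e).1 = v then ((if (ends e).2 ∈ Z then (1 : ℤ) else 0) -
      (if (ends e).1 ∈ Z then 1 else 0)) else 0) + (if (ends e).2 = v then ((if (ends e).1 ∈ Z then (1 : ℤ) else 0) -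
      (if (ends e).2 ∈ Z then 1 else 0)) else 0)) ≤ 0 := fun e => by
    by_cases a : (ends e).1 = v <;> by_cases b : (ends e).2 = v <;> simp [a, b, hv] <;> split_ifs <;> omega
  refine ⟨Finset.sum_nonpos fun e _ => hterm e, fun h e => ?_⟩
  have := (Finset.sum_eq_zero_iff_of_nonpos fun e _ => hterm e).1 h e (Finset.mem_univ e)
  by_cases a : (ends e).1 = v <;> by_cases b : (ends e).2 = v <;> simp_all [sub_eq_zero]

end BasicIneqLib
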